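import Cfsg.Agent.Lib.U52.M

/-! Facts about the Sylow 2-subgroup of `U₅(2)` (generated). -/

set_option autoImplicit false
set_option maxRecDepth 100000

namespace Cfsg.Lib.U52

open Cfsg.Lib.Calc Cfsg.Lib.T2 Cfsg.Lib.T3 Cfsg.Lib.Grp Subgroup

theorem vm_inv {G : Type*} [Group G] {γ : ℕ → G} (g : Gf vm γ 0 []) :
    ∀ x ∈ genW γ (vm.ws 0), x * x = 1 → x ∈ genW γ (vm.ws 1) ∨ x ∈ genW γ (vm.ws 2) :=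
  g.tr (φ := .all 0 40 [] (.imp (.one (.mul (.l 40) (.l 40))) (.or (.mem 1 (.l 40)) (.mem 2 (.l 40))))) (by decide +kernel)

theorem vm_A2 {G : Type*} [Group G] {γ : ℕ → G} (g : Gf vm γ 0 []) :
    ∀ x ∈ genW γ (vm.ws 1), x * x = 1 :=
  g.tr (φ := .all 1 40 [] (.one (.mul (.l 40) (.l 40)))) (by decide +kernel)

theorem vm_Z {G : Type*} [Group G] {γ : ℕ → G} (g : Gf vm γ 0 []) :
    ∀ x ∈ genW γ (vm.ws 4), x = 1 ∨ x = γ 10 :=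
  g.tr (φ := .all 4 40 [] (.or (.one (.l 40)) (.eq (.l 40) (.l 10)))) (by decide +kernel)

theorem vm_wc {G : Type*} [Group G] {γ : ℕ → G} (g : Gf vm γ 0 []) :
    ∀ y ∈ genW γ (vm.ws 11), y = 1 ∨ (∀ x ∈ genW γ (vm.ws 2), x * y = y * x → x * x = 1 → x ∈ genW γ (vm.ws 4) ∨ x * y ∈ genW γ (vm.ws 4) ∨ (∀ s ∈ genW γ (vm.ws 2), s * y = y * s → s * x = x * s → s * s = 1 → s ∈ genW γ (vm.ws 4) ∨ s * y ∈ genW γ (vm.ws 4) ∨ x * s ∈ genW γ (vm.ws 4) ∨ x * s * y ∈ genW γ (vm.ws 4))) :=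
  g.tr (φ := .all 11 40 [] (.or (.one (.l 40)) (.all 2 41 [(.l 40, .l 40)] (.imp (.one (.mul (.l 41) (.l 41))) (.or (.mem 4 (.l 41)) (.or (.mem 4 (.mul (.l 41) (.l 40))) (.all 2 42 [(.l 40, .l 40), (.l 41, .l 41)] (.imp (.one (.mul (.l 42) (.l 42))) (.or (.mem 4 (.l 42)) (.or (.mem 4 (.mul (.l 42) (.l 40))) (.or (.mem 4 (.mul (.l 41) (.l 42))) (.mem 4 (.mul (.mul (.l 41) (.l 42)) (.l 40)))))))))))))) (by decide +kernel)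

theorem vm_sqB {G : Type*} [Group G] {γ : ℕ → G} (g : Gf vm γ 0 []) :
    ∀ x ∈ genW γ (vm.ws 3), x * x = 1 ∨ x * x = γ 10 ∨ x * x = γ 7 ∨ x * x = γ 8 ∨ x * x = γ 9 ∨ x * x = γ 7 * γ 8 * γ 9 * γ 10 :=
  g.tr (φ := .all 3 40 [] (.or (.one (.mul (.l 40) (.l 40))) (.or (.eq (.mul (.l 40) (.l 40)) (.l 10)) (.or (.eq (.mul (.l 40) (.l 40)) (.l 7)) (.or (.eq (.mul (.l 40) (.l 40)) (.l 8)) (.or (.eq (.mul (.l 40) (.l 40)) (.l 9)) (.eq (.mul (.l 40) (.l 40)) (.mul (.mul (.mul (.l 7) (.l 8)) (.l 9)) (.l 10))))))))) (by decide +kernel)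

theorem vm_cu {G : Type*} [Group G] {γ : ℕ → G} (g : Gf vm γ 0 []) :
    ∀ x ∈ genW γ (vm.ws 0), x * γ 7 = γ 7 * x → x ∈ genW γ (vm.ws 3) :=
  g.tr (φ := .all 0 40 [(.l 7, .l 7)] (.mem 3 (.l 40))) (by decide +kernel)

theorem vm_y1 {G : Type*} [Group G] {γ : ℕ → G} (g : Gf vm γ 0 []) :
    ∀ s ∈ genW γ (vm.ws 11), s = 1 ∨ (∃ r ∈ genW γ (vm.ws 2), r * s = s * r ∧ r * r = 1 ∧ (∃ t ∈ genW γ (vm.ws 2), t * s = s * t ∧ r * t * r⁻¹ * t⁻¹ = γ 10)) :=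
  g.tr (φ := .all 11 40 [] (.or (.one (.l 40)) (.ex 2 41 [(.l 40, .l 40)] (.and (.one (.mul (.l 41) (.l 41))) (.ex 2 42 [(.l 40, .l 40)] (.eq (.mul (.mul (.mul (.l 41) (.l 42)) (.inv (.l 41))) (.inv (.l 42))) (.l 10))))))) (by decide +kernel)

theorem vm_c1 {G : Type*} [Group G] {γ : ℕ → G} (g : Gf vm γ 0 []) :
    ∀ y ∈ genW γ (vm.ws 11), y = 1 ∨ (∀ x ∈ genW γ (vm.ws 0), x * y = y * x → x ∈ genW γ (vm.ws 2)) :=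
  g.tr (φ := .all 11 40 [] (.or (.one (.l 40)) (.all 0 41 [(.l 40, .l 40)] (.mem 2 (.l 41))))) (by decide +kernel)

theorem vm_oo {G : Type*} [Group G] {γ : ℕ → G} (g : Gf vm γ 0 []) :
    ∀ x ∈ genW γ (vm.ws 1), x = γ 10 ∨ x = γ 7 ∨ x = γ 8 ∨ x = γ 9 ∨ x = γ 7 * γ 8 * γ 9 * γ 10 → ∀ y ∈ genW γ (vm.ws 1), y = γ 10 ∨ y = γ 7 ∨ y = γ 8 ∨ y = γ 9 ∨ y = γ 7 * γ 8 * γ 9 * γ 10 → ¬ (x * y = γ 10 ∨ x * y = γ 7 ∨ x * y = γ 8 ∨ x * y = γ 9 ∨ x * y = γ 7 * γ 8 * γ 9 * γ 10) :=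
  g.tr (φ := .all 1 40 [] (.imp (.or (.eq (.l 40) (.l 10)) (.or (.eq (.l 40) (.l 7)) (.or (.eq (.l 40) (.l 8)) (.or (.eq (.l 40) (.l 9)) (.eq (.l 40) (.mul (.mul (.mul (.l 7) (.l 8)) (.l 9)) (.l 10))))))) (.all 1 41 [] (.imp (.or (.eq (.l 41) (.l 10)) (.or (.eq (.l 41) (.l 7)) (.or (.eq (.l 41) (.l 8)) (.or (.eq (.l 41) (.l 9)) (.eq (.l 41) (.mul (.mul (.mul (.l 7) (.l 8)) (.l 9)) (.l 10))))))) (.not (.or (.eq (.mul (.l 40) (.l 41)) (.l 10)) (.or (.eq (.mul (.l 40) (.l 41)) (.l 7)) (.or (.eq (.mul (.l 40) (.l 41)) (.l 8)) (.or (.eq (.mul (.l 40) (.l 41)) (.l 9)) (.eq (.mul (.l 40) (.l 41)) (.mul (.mul (.mul (.l 7) (.l 8)) (.l 9)) (.l 10)))))))))))) (by decide +kernel)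

theorem vm_ou {G : Type*} [Group G] {γ : ℕ → G} (g : Gf vm γ 0 []) :
    ∀ x ∈ genW γ (vm.ws 1), x = γ 10 ∨ x = γ 7 ∨ x = γ 8 ∨ x = γ 9 ∨ x = γ 7 * γ 8 * γ 9 * γ 10 → x = γ 10 ∨ x * γ 7 ∈ genW γ (vm.ws 2) ∧ (∃ g ∈ genW γ (vm.ws 2), g * x = γ 7 * g ∧ True) :=
  g.tr (φ := .all 1 40 [] (.imp (.or (.eq (.l 40) (.l 10)) (.or (.eq (.l 40) (.l 7)) (.or (.eq (.l 40) (.l 8)) (.or (.eq (.l 40) (.l 9)) (.eq (.l 40) (.mul (.mul (.mul (.l 7) (.l 8)) (.l 9)) (.l 10))))))) (.or (.eq (.l 40) (.l 10)) (.and (.mem 2 (.mul (.l 40) (.l 7))) (.ex 2 41 [(.l 40, .l 7)] (.tt)))))) (by decide +kernel)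

theorem vm_X {G : Type*} [Group G] {γ : ℕ → G} (g : Gf vm γ 0 []) :
    ∀ x ∈ genW γ (vm.ws 1), x = 1 ∨ (x = γ 10 ∨ x = γ 7 ∨ x = γ 8 ∨ x = γ 9 ∨ x = γ 7 * γ 8 * γ 9 * γ 10) ∨ (∃ y ∈ genW γ (vm.ws 1), (y = γ 10 ∨ y = γ 7 ∨ y = γ 8 ∨ y = γ 9 ∨ y = γ 7 * γ 8 * γ 9 * γ 10) ∧ (x * y = γ 10 ∨ x * y = γ 7 ∨ x * y = γ 8 ∨ x * y = γ 9 ∨ x * y = γ 7 * γ 8 * γ 9 * γ 10)) :=
  g.tr (φ := .all 1 40 [] (.or (.one (.l 40)) (.or (.or (.eq (.l 40) (.l 10)) (.or (.eq (.l 40) (.l 7)) (.or (.eq (.l 40) (.l 8)) (.or (.eq (.l 40) (.l 9)) (.eq (.l 40) (.mul (.mul (.mul (.l 7) (.l 8)) (.l 9)) (.l 10))))))) (.ex 1 41 [] (.and (.or (.eq (.l 41) (.l 10)) (.or (.eq (.l 41) (.l 7)) (.or (.eq (.l 41) (.l 8)) (.or (.eq (.l 41) (.l 9)) (.eq (.l 41) (.mul (.mul (.mul (.l 7) (.l 8)) (.l 9))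 (.l 10))))))) (.or (.eq (.mul (.l 40) (.l 41)) (.l 10)) (.or (.eq (.mul (.l 40) (.l 41)) (.l 7)) (.or (.eq (.mul (.l 40) (.l 41)) (.l 8)) (.or (.eq (.mul (.l 40) (.l 41)) (.l 9)) (.eq (.mul (.l 40) (.l 41)) (.mul (.mul (.mul (.l 7) (.l 8)) (.l 9)) (.l 10)))))))))))) (by decide +kernel)

theorem vm_uq {G : Type*} [Group G] {γ : ℕ → G} (g : Gf vm γ 0 []) :
    ∀ x ∈ genW γ (vm.ws 1), x = γ 10 ∨ x = γ 7 ∨ x = γ 8 ∨ x = γ 9 ∨ x = γ 7 * γ 8 * γ 9 * γ 10 → x * (γ 10 * γ 7) = γ 10 ∨ x * (γ 10 * γ 7) = γ 7 ∨ x * (γ 10 * γ 7) = γ 8 ∨ x * (γ 10 * γ 7) = γ 9 ∨ x * (γ 10 * γ 7) = γ 7 * γ 8 * γ 9 * γ 10 → x = γ 10 ∨ x = γ 7 :=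
  g.tr (φ := .all 1 40 [] (.imp (.or (.eq (.l 40) (.l 10)) (.or (.eq (.l 40) (.l 7)) (.or (.eq (.l 40) (.l 8)) (.or (.eq (.l 40) (.l 9)) (.eq (.l 40) (.mul (.mul (.mul (.l 7) (.l 8)) (.l 9)) (.l 10))))))) (.imp (.or (.eq (.mul (.l 40) (.mul (.l 10) (.l 7))) (.l 10)) (.or (.eq (.mul (.l 40) (.mul (.l 10) (.l 7))) (.l 7)) (.or (.eq (.mul (.l 40) (.mul (.l 10) (.l 7))) (.l 8)) (.or (.eq (.mul (.l 40) (.mul (.l 10) (.l 7))) (.l 9)) (.eq (.mul (.l 40) (.mul (.l 10) (.l 7))) (.mul (.mul (.mul (.l 7) (.l 8)) (.l 9)) (.l 10))))))) (.or (.eq (.l 40) (.l 10)) (.eq (.l 40) (.l 7)))))) (by decide +kernel)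

theorem vm_cl {G : Type*} [Group G] {γ : ℕ → G} (g : Gf vm γ 0 []) :
    ∀ x ∈ genW γ (vm.ws 0), x * x = 1 → x ∈ genW γ (vm.ws 1) ∨ (∃ g ∈ genW γ (vm.ws 0), g * x * g⁻¹ ∈ genW γ (vm.ws 11)) :=
  g.tr (φ := .all 0 40 [] (.imp (.one (.mul (.l 40) (.l 40))) (.or (.mem 1 (.l 40)) (.ex 0 41 [] (.mem 11 (.mul (.mul (.l 41) (.l 40)) (.inv (.l 41)))))))) (by decide +kernel)

theorem vm_V4 {G : Type*} [Group G] {γ : ℕ → G} (g : Gf vm γ 0 []) :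
    ∀ x ∈ genW γ (vm.ws 11), x = 1 ∨ x = γ 1 ∨ x = γ 2 ∨ x = γ 1 * γ 2 :=
  g.tr (φ := .all 11 40 [] (.or (.one (.l 40)) (.or (.eq (.l 40) (.l 1)) (.or (.eq (.l 40) (.l 2)) (.eq (.l 40) (.mul (.l 1) (.l 2))))))) (by decide +kernel)

theorem vm_M {G : Type*} [Group G] {γ : ℕ → G} (g : Gf vm γ 0 []) :
    ∀ x ∈ genW γ (vm.ws 11), x = 1 ∨ (x ∈ genW γ (vm.ws 5) → x = γ 1) ∧ (x ∈ genW γ (vm.ws 6) → x = γ 2) ∧ (x ∈ genW γ (vm.ws 7) → x = γ 1 * γ 2) :=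
  g.tr (φ := .all 11 40 [] (.or (.one (.l 40)) (.and (.imp (.mem 5 (.l 40)) (.eq (.l 40) (.l 1))) (.and (.imp (.mem 6 (.l 40)) (.eq (.l 40) (.l 2))) (.imp (.mem 7 (.l 40)) (.eq (.l 40) (.mul (.l 1) (.l 2)))))))) (by decide +kernel)

theorem vm_s1 {G : Type*} [Group G] {γ : ℕ → G} (g : Gf vm γ 0 []) :
    ∀ t ∈ genW γ (vm.ws 0), t * t = γ 10 → t ∈ genW γ (vm.ws 2) ∨ (∃ s ∈ genW γ (vm.ws 0), s * s ∉ genW γ (vm.ws 2) ∧ s * t * s⁻¹ * t⁻¹ ∈ genW γ (vm.ws 4)) :=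
  g.tr (φ := .all 0 40 [] (.imp (.eq (.mul (.l 40) (.l 40)) (.l 10)) (.or (.mem 2 (.l 40)) (.ex 0 41 [] (.and (.not (.mem 2 (.mul (.l 41) (.l 41)))) (.mem 4 (.mul (.mul (.mul (.l 41) (.l 40)) (.inv (.l 41))) (.inv (.l 40))))))))) (by decide +kernel)

theorem vm_s2 {G : Type*} [Group G] {γ : ℕ → G} (g : Gf vm γ 0 []) :
    ∀ s ∈ genW γ (vm.ws 12), s ∈ genW γ (vm.ws 10) ∨ (∀ t ∈ genW γ (vm.ws 2), t * t = γ 10 → s * t * s⁻¹ * t⁻¹ ∉ genW γ (vm.ws 4)) :=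
  g.tr (φ := .all 12 40 [] (.or (.mem 10 (.l 40)) (.all 2 41 [] (.imp (.eq (.mul (.l 41) (.l 41)) (.l 10)) (.not (.mem 4 (.mul (.mul (.mul (.l 40) (.l 41)) (.inv (.l 40))) (.inv (.l 41))))))))) (by decide +kernel)

theorem vm_s3 {G : Type*} [Group G] {γ : ℕ → G} (g : Gf vm γ 0 []) :
    ∀ s ∈ genW γ (vm.ws 13), s * s ∈ genW γ (vm.ws 2) ∧ s * s * (s * s) = 1 :=
  g.tr (φ := .all 13 40 [] (.and (.mem 2 (.mul (.l 40) (.l 40))) (.one (.mul (.mul (.l 40) (.l 40)) (.mul (.l 40) (.l 40)))))) (by decide +kernel)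

theorem vm_sqQ {G : Type*} [Group G] {γ : ℕ → G} (g : Gf vm γ 0 []) :
    ∀ x ∈ genW γ (vm.ws 2), x * x = 1 ∨ x * x = γ 10 :=
  g.tr (φ := .all 2 40 [] (.or (.one (.mul (.l 40) (.l 40))) (.eq (.mul (.l 40) (.l 40)) (.l 10)))) (by decide +kernel)

theorem vm_AQ {G : Type*} [Group G] {γ : ℕ → G} (g : Gf vm γ 0 []) :
    ∀ x ∈ genW γ (vm.ws 1), x ∈ genW γ (vm.ws 2) ∨ (x = γ 10 ∨ x = γ 7 ∨ x = γ 8 ∨ x = γ 9 ∨ x = γ 7 * γ 8 * γ 9 * γ 10) ∨ x * γ 10 = γ 10 ∨ x * γ 10 = γ 7 ∨ x * γ 10 = γ 8 ∨ x * γ 10 = γ 9 ∨ x * γ 10 = γ 7 * γ 8 * γ 9 * γ 10 :=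
  g.tr (φ := .all 1 40 [] (.or (.mem 2 (.l 40)) (.or (.or (.eq (.l 40) (.l 10)) (.or (.eq (.l 40) (.l 7)) (.or (.eq (.l 40) (.l 8)) (.or (.eq (.l 40) (.l 9)) (.eq (.l 40) (.mul (.mul (.mul (.l 7) (.l 8)) (.l 9)) (.l 10))))))) (.or (.eq (.mul (.l 40) (.l 10)) (.l 10)) (.or (.eq (.mul (.l 40) (.l 10)) (.l 7)) (.or (.eq (.mul (.l 40) (.l 10)) (.l 8)) (.or (.eq (.mul (.l 40) (.l 10)) (.l 9)) (.eq (.mul (.l 40) (.l 10)) (.mul (.mul (.mul (.l 7) (.l 8)) (.l 9)) (.l 10)))))))))) (by decide +kernel)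

theorem vm_OQ {G : Type*} [Group G] {γ : ℕ → G} (g : Gf vm γ 0 []) :
    ∀ x ∈ genW γ (vm.ws 1), x = γ 10 ∨ x = γ 7 ∨ x = γ 8 ∨ x = γ 9 ∨ x = γ 7 * γ 8 * γ 9 * γ 10 → x ∈ genW γ (vm.ws 2) → x = γ 10 :=
  g.tr (φ := .all 1 40 [] (.imp (.or (.eq (.l 40) (.l 10)) (.or (.eq (.l 40) (.l 7)) (.or (.eq (.l 40) (.l 8)) (.or (.eq (.l 40) (.l 9)) (.eq (.l 40) (.mul (.mul (.mul (.l 7) (.l 8)) (.l 9)) (.l 10))))))) (.imp (.mem 2 (.l 40)) (.eq (.l 40) (.l 10))))) (by decide +kernel)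

theorem vm_cQ {G : Type*} [Group G] {γ : ℕ → G} (g : Gf vm γ 0 []) :
    ∀ x ∈ genW γ (vm.ws 0), x * γ 1 = γ 1 * x → x * γ 2 = γ 2 * x → x * (γ 7 * γ 8) = γ 7 * γ 8 * x → x * (γ 7 * γ 9) = γ 7 * γ 9 * x → x * (γ 1 * γ 5 * γ 7 * γ 9) = γ 1 * γ 5 * γ 7 * γ 9 * x → x * (γ 1 * γ 6 * γ 7 * γ 9) = γ 1 * γ 6 * γ 7 * γ 9 * x → x ∈ genW γ (vm.ws 4) :=
  g.tr (φ := .all 0 40 [(.l 1, .l 1), (.l 2, .l 2), (.mul (.l 7) (.l 8), .mul (.l 7) (.l 8)), (.mul (.l 7) (.l 9), .mul (.l 7) (.l 9)), (.mul (.mul (.mul (.l 1) (.l 5)) (.l 7)) (.l 9), .mul (.mul (.mul (.l 1) (.l 5)) (.l 7)) (.l 9)), (.mul (.mul (.mul (.l 1) (.l 6)) (.l 7)) (.l 9), .mul (.mul (.mul (.l 1) (.l 6)) (.l 7)) (.l 9))] (.mem 4 (.l 40))) (by decide +kernel)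

theorem vm_f1 {G : Type*} [Group G] {γ : ℕ → G} (g : Gf vm γ 0 []) :
    ∀ x ∈ genW γ (vm.ws 2), x * x = γ 10 → (x * (γ 3 * x * (γ 3)⁻¹) ∉ genW γ (vm.ws 4) ∧ x * (γ 3 * x * (γ 3)⁻¹) * (x * (γ 3 * x * (γ 3)⁻¹)) ≠ γ 10 ∨ x * (γ 3 * x * (γ 3)⁻¹) * (γ 3 * (x * (γ 3 * x * (γ 3)⁻¹)) * (γ 3)⁻¹) ∉ genW γ (vm.ws 4) ∧ x * (γ 3 * x * (γ 3)⁻¹) * (γ 3 * (x * (γ 3 * x * (γ 3)⁻¹)) * (γ 3)⁻¹) * (x * (γ 3 * x * (γ 3)⁻¹) * (γ 3 * (x * (γ 3 * x * (γ 3)⁻¹)) * (γ 3)⁻¹)) ≠ γ 10) ∧ (x * (γ 4 * x * (γ 4)⁻¹) ∉ genW γ (vm.ws 4) ∧ x * (γ 4 * x * (γ 4)⁻¹) * (x * (γ 4 * x * (γ 4)⁻¹)) ≠ γ 10 ∨ x * (γ 4 * x * (γ 4)⁻¹) * (γ 4 * (x * (γ 4 * x * (γ 4)⁻¹)) * (γ 4)⁻¹) ∉ genW γ (vm.ws 4) ∧ x * (γ 4 * x * (γ 4)⁻¹) * (γ 4 * (x * (γ 4 * x * (γ 4)⁻¹)) * (γ 4)⁻¹) * (x * (γ 4 * x * (γ 4)⁻¹) * (γ 4 * (x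 * (γ 4 * x * (γ 4)⁻¹)) * (γ 4)⁻¹)) ≠ γ 10) ∧ (x * (γ 3 * γ 4 * x * (γ 3 * γ 4)⁻¹) ∉ genW γ (vm.ws 4) ∧ x * (γ 3 * γ 4 * x * (γ 3 * γ 4)⁻¹) * (x * (γ 3 * γ 4 * x * (γ 3 * γ 4)⁻¹)) ≠ γ 10 ∨ x * (γ 3 * γ 4 * x * (γ 3 * γ 4)⁻¹) * (γ 3 * γ 4 * (x * (γ 3 * γ 4 * x * (γ 3 * γ 4)⁻¹)) * (γ 3 * γ 4)⁻¹) ∉ genW γ (vm.ws 4) ∧ x * (γ 3 * γ 4 * x * (γ 3 * γ 4)⁻¹) * (γ 3 * γ 4 * (x * (γ 3 * γ 4 * x * (γ 3 * γ 4)⁻¹)) * (γ 3 * γ 4)⁻¹) * (x * (γ 3 * γ 4 * x * (γ 3 * γ 4)⁻¹) * (γ 3 * γ 4 * (x * (γ 3 * γ 4 * x * (γ 3 * γ 4)⁻¹)) * (γ 3 * γ 4)⁻¹)) ≠ γ 10) :=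
  g.tr (φ := .all 2 40 [] (.imp (.eq (.mul (.l 40) (.l 40)) (.l 10)) (.and (.lt 41 (.mul (.l 40) (.mul (.mul (.l 3) (.l 40)) (.inv (.l 3)))) (.or (.and (.not (.mem 4 (.l 41))) (.not (.eq (.mul (.l 41) (.l 41)) (.l 10)))) (.and (.not (.mem 4 (.mul (.l 41) (.mul (.mul (.l 3) (.l 41)) (.inv (.l 3)))))) (.not (.eq (.mul (.mul (.l 41) (.mul (.mul (.l 3) (.l 41)) (.inv (.l 3)))) (.mul (.l 41) (.mul (.mul (.l 3) (.l 41)) (.inv (.l 3))))) (.l 10)))))) (.and (.lt 41 (.mul (.l 40) (.mul (.mul (.l 4) (.l 40)) (.inv (.l 4)))) (.or (.and (.not (.mem 4 (.l 41))) (.not (.eq (.mul (.l 41) (.l 41)) (.l 10)))) (.and (.not (.mem 4 (.mul (.l 41) (.mul (.mul (.l 4) (.l 41)) (.inv (.l 4)))))) (.not (.eq (.mul (.mul (.l 41) (.mul (.mul (.l 4) (.l 41)) (.inv (.l 4)))) (.mul (.l 41) (.mul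 (.mul (.l 4) (.l 41)) (.inv (.l 4))))) (.l 10)))))) (.lt 41 (.mul (.l 40) (.mul (.mul (.mul (.l 3) (.l 4)) (.l 40)) (.inv (.mul (.l 3) (.l 4))))) (.or (.and (.not (.mem 4 (.l 41))) (.not (.eq (.mul (.l 41) (.l 41)) (.l 10)))) (.and (.not (.mem 4 (.mul (.l 41) (.mul (.mul (.mul (.l 3) (.l 4)) (.l 41)) (.inv (.mul (.l 3) (.l 4))))))) (.not (.eq (.mul (.mul (.l 41) (.mul (.mul (.mul (.l 3) (.l 4)) (.l 41)) (.inv (.mul (.l 3) (.l 4))))) (.mul (.l 41) (.mul (.mul (.mul (.l 3) (.l 4)) (.l 41)) (.inv (.mul (.l 3) (.l 4)))))) (.l 10)))))))))) (by decide +kernel)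

theorem vm_f2 {G : Type*} [Group G] {γ : ℕ → G} (g : Gf vm γ 0 []) :
    ∀ x ∈ genW γ (vm.ws 2), x * x = γ 10 → x * ((γ 3)⁻¹ * x * γ 3) = (γ 3)⁻¹ * x * γ 3 * x → x * ((γ 4)⁻¹ * x * γ 4) = (γ 4)⁻¹ * x * γ 4 * x → x * ((γ 3 * γ 4)⁻¹ * x * (γ 3 * γ 4)) = (γ 3 * γ 4)⁻¹ * x * (γ 3 * γ 4) * x → ∀ y ∈ genW γ (vm.ws 2), y * ((γ 3)⁻¹ * x * γ 3) = (γ 3)⁻¹ * x * γ 3 * y → y * ((γ 4)⁻¹ * x * γ 4) = (γ 4)⁻¹ * x * γ 4 * y → y * ((γ 3 * γ 4)⁻¹ * x * (γ 3 * γ 4)) = (γ 3 * γ 4)⁻¹ * x * (γ 3 * γ 4) * y → y * y = γ 10 → y * ((γ 3)⁻¹ * y * γ 3) = (γ 3)⁻¹ * y * γ 3 * y → y * ((γ 4)⁻¹ * y * γ 4) = (γ 4)⁻¹ * y * γ 4 * y → y * ((γ 3 * γ 4)⁻¹ * y * (γ 3 * γ 4)) = (γ 3 * γ 4)⁻¹ * y * (γ 3 * γ 4) * y → x * y * (x * y) ≠ γ 10 :=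
  g.tr (φ := .all 2 40 [] (.imp (.eq (.mul (.l 40) (.l 40)) (.l 10)) (.imp (.eq (.mul (.l 40) (.mul (.mul (.inv (.l 3)) (.l 40)) (.l 3))) (.mul (.mul (.mul (.inv (.l 3)) (.l 40)) (.l 3)) (.l 40))) (.imp (.eq (.mul (.l 40) (.mul (.mul (.inv (.l 4)) (.l 40)) (.l 4))) (.mul (.mul (.mul (.inv (.l 4)) (.l 40)) (.l 4)) (.l 40))) (.imp (.eq (.mul (.l 40) (.mul (.mul (.inv (.mul (.l 3) (.l 4))) (.l 40)) (.mul (.l 3) (.l 4)))) (.mul (.mul (.mul (.inv (.mul (.l 3) (.l 4))) (.l 40)) (.mul (.l 3) (.l 4))) (.l 40))) (.all 2 41 [(.mul (.mul (.inv (.l 3)) (.l 40)) (.l 3), .mul (.mul (.inv (.l 3)) (.l 40)) (.l 3)), (.mul (.mul (.inv (.l 4)) (.l 40)) (.l 4), .mul (.mul (.inv (.l 4)) (.l 40)) (.l 4)), (.mul (.mul (.inv (.mul (.l 3) (.l 4))) (.l 40)) (.mul (.l 3) (.l 4)), .mul (.mul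 (.inv (.mul (.l 3) (.l 4))) (.l 40)) (.mul (.l 3) (.l 4)))] (.imp (.eq (.mul (.l 41) (.l 41)) (.l 10)) (.imp (.eq (.mul (.l 41) (.mul (.mul (.inv (.l 3)) (.l 41)) (.l 3))) (.mul (.mul (.mul (.inv (.l 3)) (.l 41)) (.l 3)) (.l 41))) (.imp (.eq (.mul (.l 41) (.mul (.mul (.inv (.l 4)) (.l 41)) (.l 4))) (.mul (.mul (.mul (.inv (.l 4)) (.l 41)) (.l 4)) (.l 41))) (.imp (.eq (.mul (.l 41) (.mul (.mul (.inv (.mul (.l 3) (.l 4))) (.l 41)) (.mul (.l 3) (.l 4)))) (.mul (.mul (.mul (.inv (.mul (.l 3) (.l 4))) (.l 41)) (.mul (.l 3) (.l 4))) (.l 41))) (.not (.eq (.mul (.mul (.l 40) (.l 41)) (.mul (.l 40) (.l 41))) (.l 10))))))))))))) (by decide +kernel)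

theorem vm_p2 {G : Type*} [Group G] {γ : ℕ → G} (g : Gf vm γ 0 []) :
    ∀ m ∈ genW γ (vm.ws 2), m * m = 1 → ∀ x ∈ genW γ (vm.ws 9), x * m = m * x → ∀ y ∈ genW γ (vm.ws 9), y * m = m * y → m ∈ genW γ (vm.ws 9) ∨ x ∈ genW γ (vm.ws 4) ∨ y ∈ genW γ (vm.ws 4) ∨ x * y ∈ genW γ (vm.ws 4) :=
  g.tr (φ := .all 2 40 [] (.imp (.one (.mul (.l 40) (.l 40))) (.all 9 41 [(.l 40, .l 40)] (.all 9 42 [(.l 40, .l 40)] (.or (.mem 9 (.l 40)) (.or (.mem 4 (.l 41)) (.or (.mem 4 (.l 42)) (.mem 4 (.mul (.l 41) (.l 42)))))))))) (by decide +kernel)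

theorem vm_xq {G : Type*} [Group G] {γ : ℕ → G} (g : Gf vm γ 0 []) :
    ∀ x ∈ genW γ (vm.ws 9), x ∈ genW γ (vm.ws 4) ∨ x ≠ 1 ∧ ¬ (x = γ 10 ∨ x = γ 7 ∨ x = γ 8 ∨ x = γ 9 ∨ x = γ 7 * γ 8 * γ 9 * γ 10) :=
  g.tr (φ := .all 9 40 [] (.or (.mem 4 (.l 40)) (.and (.not (.one (.l 40))) (.not (.or (.eq (.l 40) (.l 10)) (.or (.eq (.l 40) (.l 7)) (.or (.eq (.l 40) (.l 8)) (.or (.eq (.l 40) (.l 9)) (.eq (.l 40) (.mul (.mul (.mul (.l 7) (.l 8)) (.l 9)) (.l 10))))))))))) (by decide +kernel)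

theorem vm_K {G : Type*} [Group G] {γ : ℕ → G} (g : Gf vm γ 0 []) :
    ∀ x ∈ genW γ (vm.ws 8), x = 1 ∨ x = γ 10 ∨ x = γ 7 ∨ x = γ 10 * γ 7 :=
  g.tr (φ := .all 8 40 [] (.or (.one (.l 40)) (.or (.eq (.l 40) (.l 10)) (.or (.eq (.l 40) (.l 7)) (.eq (.l 40) (.mul (.l 10) (.l 7))))))) (by decide +kernel)

end Cfsg.Lib.U52
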